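import Mathlib
import Cfsg.Agent.SOLV.FH.Key

/-!
# Frobenius groups of operators: fixed points of the complement act faithfully
-/

set_option autoImplicit false

open Subgroup
open scoped Pointwise

namespace CL.KH

open CL.Misc CL.Abelem CL.FroA

variable {X : Type*} [Group X] [Finite X] {V A F H K Q : Subgroup X}

theorem free' [V.Normal] {p : ℕ} (hE : Cfsg.IsElementaryAbelian p V)
    (hA : ∀ a ∈ A, ∀ b ∈ A, a * b = b * a) (hH : H ≤ normalizer (A : Set X)) (h : Mx V A K)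
    (h1 : ∀ a ∈ H, a ∈ normalizer (K : Set X) → a = 1) {c : X} (hc : ∀ a ∈ A, a * c = c * a)
    (h3 : ∀ u ∈ V, (∀ a ∈ H, u * a = a * u) → c * u = u * c) {w : X}
    (hw : w ∈ V ⊓ centralizer (K : Set X)) : c * w = w * c := by
  have := Fintype.ofFinite H
  let ρ : Representation (ZMod p) X (Abelem.V hE) :=
    (rep hE (A := ⊤) (by rw [normalizer_eq_top])).comp topEquiv.symm.toMonoidHom
  have hρ : ∀ a v, ρ a v = v ↔ a * v.val = v.val * a := fun a v =>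
    rep_apply_eq_self_iff (hA := by rw [normalizer_eq_top]) (⟨a, trivial⟩ : (⊤ : Subgroup X)) v
  let v : Abelem.V hE := ⟨w, hw.1⟩
  have hm : ∀ a : H, Mx V A (FroA.cj (a : X)⁻¹ K) := fun a => h.cj (inv_mem (hH a.2))
  have h5 : ∀ (i : H), ∀ a ∈ FroA.cj (i : X)⁻¹ K, ρ a (ρ i v) = ρ i v := fun i a ha => by
    conv_rhs => rw [← (hρ _ v).2 (hw.2 _ (mem_cj.1 ha))]
    simp only [← Module.End.mul_apply, ← map_mul]
    congr 2
    group
  have h6 := indep_fix ρ hA (fun a : H => FroA.cj (a : X)⁻¹ K) (fun i => (hm i).1)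
    (fun i u hu e a ha e' => (hm i).mem u.mem (mt Abelem.V.val_eq_one_iff.1 hu)
      (fun a ha => (hρ a u).1 (e a ha)) ha ((hρ a u).1 e'))
    (fun i j hij e => hij (Subtype.ext (inv_mul_eq_one.1 (h1 _ (mul_mem (inv_mem i.2) j.2)
      (mem_normalizer_iff.2 fun y => by
        have := SetLike.ext_iff.1 ((hm j).eq e (hm i).1 (hm i).2.1) (j * y * (j : X)⁻¹)
        rw [mem_cj, mem_cj] at this
        convert this using 2 <;> group))))) Finset.univ (fun i => ρ c (ρ i v) - ρ i v)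
    (fun i a ha => by
      rw [map_sub, h5 i a ha, ← Module.End.mul_apply (ρ a), ← map_mul, hc a ((hm i).1 ha),
        map_mul, Module.End.mul_apply, h5 i a ha])
    (by
      rw [Finset.sum_sub_distrib, ← map_sum, sub_eq_zero, hρ]
      refine h3 _ (Abelem.V.mem _) fun a ha => ((hρ a _).1 ?_).symm
      rw [map_sum, ← Equiv.sum_comp (Equiv.mulLeft (⟨a, ha⟩ : H)) fun g => ρ g v]
      simp) 1 (Finset.mem_univ _)
  refine (hρ c v).1 ?_
  simpa [sub_eq_zero] using h6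

theorem triv [hA : IsMulCommutative A] (hF : Fr A F H) {a : X} (ha : a ∈ A) (hK : K ≤ A) (e : K ⊔ zpowers a = A) {b : X}
    (hb : b ∈ H) (hb1 : b ≠ 1) (hbK : b ∈ normalizer (K : Set X)) {f : X} (hf : f ∈ F) (hfK : f ∈ normalizer (K : Set X)) {z : X}
    (hz : z ∈ A) : z⁻¹ * (f * z * f⁻¹) ∈ K := by
  let _ : CommGroup A := { (inferInstance : Group A) with mul_comm := hA.is_comm.comm }
  let φ := QuotientGroup.mk' (K.subgroupOf A)
  let σ := A.normalizerMonoidHom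
  have hφ : ∀ x : A, φ x = 1 ↔ (x : X) ∈ K := fun x => QuotientGroup.eq_one_iff x
  have dec : ∀ x : A, ∃ k : A, (k : X) ∈ K ∧ ∃ n : ℤ, x = k * ⟨a, ha⟩ ^ n := fun x => by
    obtain ⟨y, hy, _, ⟨n, rfl⟩, e'⟩ := (mem_sup_of_le_normalizer' ((zpowers_le.2 ha).trans
      ((le_centralizer_of_le_of_isMulCommutative hK).trans (centralizer_le_normalizer _)))).1
      (e.ge x.2)
    exact ⟨⟨y, hK hy⟩, hy, n, Subtype.ext e'.symm⟩
  have pw : ∀ x : normalizer (A : Set X), x.1 ∈ normalizer (K : Set X) →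
      ∃ n : ℤ, ∀ y, φ (σ x y) = φ y ^ n := fun x hx => by
    obtain ⟨k, hk, n, e1⟩ := dec (σ x ⟨a, ha⟩)
    refine ⟨n, fun y => ?_⟩
    obtain ⟨l, hl, m, rfl⟩ := dec y
    simp only [map_mul, map_zpow, e1, (hφ k).2 hk, (hφ l).2 hl, (hφ (σ x l)).2 (conj_mem hx hl),
      one_mul, ← zpow_mul, mul_comm]
  obtain ⟨x, hx, e1⟩ := hF.surj hb hb1 (S := normalizer (K : Set X) ⊓ F) inf_le_right
    (inf_normalizer_le_normalizer_inf ⟨le_normalizer hbK, hF.nmF hb⟩) (y := f) ⟨hfK, hf⟩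
  obtain ⟨n, hn⟩ := pw ⟨x, hF.hy.nm hx.2⟩ hx.1
  obtain ⟨n', hn'⟩ := pw ⟨x, hF.hy.nm hx.2⟩⁻¹ (inv_mem hx.1)
  obtain ⟨m, hm⟩ := pw ⟨b, hF.nmG hb⟩ hbK
  have e2 : (⟨f, hF.hy.nm hf⟩ : normalizer (A : Set X)) = ⟨x, hF.hy.nm hx.2⟩⁻¹ *
    ⟨b, hF.nmG hb⟩ * ⟨x, hF.hy.nm hx.2⟩ * ⟨b, hF.nmG hb⟩⁻¹ := Subtype.ext e1
  have key : φ (σ ⟨f, hF.hy.nm hf⟩ ⟨z, hz⟩) = φ ⟨z, hz⟩ := by
    rw [e2, map_mul, map_mul, map_mul, MulAut.mul_apply, MulAut.mul_apply, MulAut.mul_apply, hn',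
      hm, hn, ← zpow_mul _ n, mul_comm, zpow_mul, ← hm, ← MulAut.mul_apply, ← map_mul,
      mul_inv_cancel, map_one, MulAut.one_apply, ← hn, ← hn', ← MulAut.mul_apply, ← map_mul,
      inv_mul_cancel, map_one, MulAut.one_apply]
  exact (hφ ((⟨z, hz⟩ : A)⁻¹ * σ ⟨f, hF.hy.nm hf⟩ ⟨z, hz⟩)).1 (by rw [map_mul, map_inv, key, inv_mul_cancel])

/-- the kernel of `Q` on the component of `K` -/
def Nk (V Q K : Subgroup X) : Subgroup X := Q ⊓ centralizer ((V ⊓ centralizer (K : Set X) : Subgroup X) : Set X)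

omit [Finite X] in
theorem Nk_cj [hV : V.Normal] {g y : X} (hg : g ∈ normalizer (Q : Set X)) (h : g * y * g⁻¹ ∈ Nk V Q K) : y ∈ Nk V Q (cj g K) := by
  refine ⟨(mem_normalizer_iff.1 hg y).2 h.1, fun w hw => ?_⟩
  have := h.2 (g * w * g⁻¹) ⟨hV.conj_mem w hw.1 g, fun k hk => by
    have := hw.2 (g⁻¹ * k * g) (mem_cj.2 (by simpa [mul_assoc] using hk))
    calc k * (g * w * g⁻¹) = g * (g⁻¹ * k * g * w) * g⁻¹ := by group
      _ = _ := by rw [this]; group⟩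
  calc w * y = g⁻¹ * (g * w * g⁻¹ * (g * y * g⁻¹)) * g := by group
    _ = _ := by rw [this]; group

omit [Finite X] in
theorem cj_cj (f g : X) : cj g (cj f K) = cj (f * g) K := by
  ext y
  simp only [mem_cj, mul_inv_rev, mul_assoc]

omit [Finite X] in
theorem cj_of_mem {t : X} (h : t ∈ normalizer (K : Set X)) : cj t K = K := by
  ext y
  exact (mem_normalizer_iff.1 h y).symm

theorem core (hV : IsMinNormal V) {p : ℕ} (hE : Cfsg.IsElementaryAbelian p V) (hT : V ⊔ Q ⊔ F ⊔ H = ⊤) (h : Fr Q F H)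
    (hnil : Group.IsNilpotent Q) (hc : (Nat.card Q).Coprime (Nat.card V)) (h0 : Q ⊓ centralizer (V : Set X) = ⊥) {c : X} (hcQ : c ∈ Q)
    (h3 : ∀ u ∈ V, (∀ a ∈ H, u * a = a * u) → c * u = u * c) (hgen : ∀ L : Subgroup X, (∀ f ∈ F, f * c * f⁻¹ ∈ L) → Q ≤ L) :
    Q = ⊥ := by
  classical
  by_contra hQ
  have hVn := hV.normal
  have hVc := hE.1
  set A := Q ⊓ centralizer (Q : Set X) with hAd
  have hA0 : A ≠ ⊥ := inf_centralizer_ne_bot_of_isNilpotent hnil le_rfl le_normalizer hQ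
  have : IsMulCommutative A := ⟨⟨fun a b => Subtype.ext (b.2.2 _ a.2.1)⟩⟩
  have hA' : ∀ a ∈ A, ∀ b ∈ A, a * b = b * a := fun a ha b hb => hb.2 _ ha.1
  have hZ : normalizer (Q : Set X) ≤ normalizer (A : Set X) := nm_inf le_rfl (nm_cen le_rfl)
  have hA : Fr A F H := h.mono inf_le_left (h.hy.nm.trans hZ) (h.nmG.trans hZ)
  have nrm : ∀ L ≤ V, normalizer (Q : Set X) ≤ normalizer (L : Set X) → L.Normal := fun L h1 h2 =>
    normalizer_eq_top_iff.1 (top_le_iff.1 (hT ▸ sup_le (sup_le (sup_le ((le_centralizer_of_le_of_isMulCommutative h1).trans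
      (centralizer_le_normalizer _)) (le_normalizer.trans h2)) (h.hy.nm.trans h2)) (h.nmG.trans h2)))
  obtain ⟨K, hK, w, hw, hcw⟩ : ∃ K, Mx V A K ∧ ∃ w ∈ V ⊓ centralizer (K : Set X), c * w ≠ w * c := by
    by_contra! hcon
    let S := closure {w | ∃ K, Mx V A K ∧ w ∈ V ⊓ centralizer (K : Set X)}
    have hS : S ≤ V := (closure_le _).2 fun w ⟨_, _, hw⟩ => hw.1
    obtain ⟨K, hK, hmax⟩ := Set.exists_max_image {K : Subgroup X | K ≤ A ∧
      V ⊓ centralizer (K : Set X) ≠ ⊥} (fun K => Nat.card K) (Set.toFinite _)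
      ⟨⊥, bot_le, by rw [inf_eq_left.2 (le_centralizer_iff.1 bot_le)]; exact hV.ne_bot⟩
    have h1 : Mx V A K := ⟨hK.1, hK.2, fun L h1 h2 => hmax L ⟨h1, h2⟩⟩
    have h2 := (hV.eq_bot_or_eq S (nrm S hS (nm_of_conj fun a ha => (closure_le (cj a S)).2 fun w ⟨K, hK, hw⟩ =>
      mem_cj.2 <| Subgroup.subset_closure ⟨_, hK.cj (inv_mem (hZ ha)), hVn.conj_mem w hw.1 a, fun y hy => by
        calc y * (a * w * a⁻¹) = a * (a⁻¹ * y * a⁻¹⁻¹ * w) * a⁻¹ := by group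
          _ = _ := by rw [hw.2 _ (mem_cj.1 hy)]; group⟩)) hS).resolve_left fun e =>
      hK.2 (le_bot_iff.1 (le_trans (show _ ≤ S from fun w hw => Subgroup.subset_closure ⟨K, h1, hw⟩) e.le))
    have h4 : c = 1 := (eq_bot_iff_forall _).1 h0 c ⟨hcQ, fun v hv => mem_centralizer_singleton_iff.1
      ((show S ≤ centralizer {c} from (closure_le _).2 fun w ⟨K, hK, hw⟩ =>
        mem_centralizer_singleton_iff.2 (hcon K hK w hw).symm) (h2.ge hv))⟩
    exact hQ (le_bot_iff.1 (hgen ⊥ fun f _ => by simp [h4]))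
  have hcA : ∀ a ∈ A, a * c = c * a := fun a ha => (ha.2 c hcQ).symm
  obtain ⟨b, hb, hbK, hb1⟩ : ∃ b ∈ H, b ∈ normalizer (K : Set X) ∧ b ≠ 1 := by
    by_contra! hcon
    exact hcw (free' hE hA' hA.nmG hK hcon hcA h3 hw)
  obtain ⟨a, ha, e⟩ := hK.cyc (nm_top _) (hc.coprime_dvd_left (card_dvd_of_le inf_le_left))
  have hm : ∀ f ∈ F, Mx V A (cj f K) := fun f hf => hK.cj (hA.hy.nm hf)
  have n1 : ∀ f ∈ F, Q ≤ normalizer (Nk V Q (cj f K) : Set X) := fun f hf => nm_inf le_normalizer (nm_cen (nm_inf (nm_top _)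
    ((le_centralizer_iff.1 ((hm f hf).1.trans inf_le_right)).trans le_normalizer)))
  have n2 : ∀ f ∈ F, f ∉ normalizer (K : Set X) → c ∈ Nk V Q (cj f K) := fun f hf hn => ⟨hcQ, fun u hu =>
    (free' hE hA' hA.nmG (hm f hf) (fun x hx e1 => by
      by_contra hx1
      exact hn (inv_mem_iff.1 (hA.mem_of_conj hb hb1 hx hx1 hbK (inv_mem hf) (by rw [inv_inv]; exact mem_nm_cj.1 e1)))) hcA h3 hu).symm⟩
  have n3 : ∀ f ∈ F, ∀ g ∈ F, f * g ∉ normalizer (K : Set X) → g * c * g⁻¹ ∈ Nk V Q (cj f K) := fun f hf g hg hn => by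
    have := Nk_cj (inv_mem (h.hy.nm hg)) (y := g * c * g⁻¹) (K := cj (f * g) K) (V := V)
      (by simpa [mul_assoc] using n2 _ (mul_mem hf hg) hn)
    rwa [cj_cj, mul_inv_cancel_right] at this
  have n4 : ∀ f ∈ F, ∀ x ∈ Q, ∃ m ∈ Q, (∀ f' ∈ F, cj f' K ≠ cj f K → m ∈ Nk V Q (cj f' K)) ∧ m⁻¹ * x ∈ Nk V Q (cj f K) := by
    intro f hf x hx
    obtain ⟨n, hn, m, hm, rfl⟩ := (mem_sup_of_le_normalizer' (inf_le_left.trans (n1 f hf))).1
      (hgen (Nk V Q (cj f K) ⊔ (Q ⊓ ⨅ f' ∈ F, ⨅ _ : cj f' K ≠ cj f K, Nk V Q (cj f' K))) (fun g hg => by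
        by_cases k : f * g ∈ normalizer (K : Set X)
        · refine mem_sup_right (mem_inf.2 ⟨conj_mem (h.hy.nm hg) hcQ, ?_⟩)
          simp only [Subgroup.mem_iInf]
          refine fun f' hf' hne => n3 f' hf' g hg fun k' => hne ?_
          rw [← mul_inv_cancel_right f' g, ← cj_cj, cj_of_mem k', ← mul_inv_cancel_right f g, ← cj_cj, cj_of_mem k]
        · exact mem_sup_left (n3 f hf g hg k)) hx)
    refine ⟨m, hm.1, ?_, by simpa [mul_assoc] using conj_mem (n1 f hf (inv_mem hm.1)) hn⟩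
    simpa only [Subgroup.mem_iInf] using (mem_inf.1 hm).2
  have hAK : A ≤ K := fun z hz => by
    have hz' : ∀ f ∈ F, f⁻¹ * z * f ∈ A := fun f hf => by simpa using conj_mem (hA.hy.nm (inv_mem hf)) hz
    have := Fintype.ofFinite F
    obtain ⟨x, hx, e1⟩ : ∃ x ∈ Q, ∀ f ∈ (Finset.univ : Finset F), x⁻¹ * ((f : X)⁻¹ * z * f) ∈ Nk V Q (cj f K) := by
      induction (Finset.univ : Finset F) using Finset.induction_on with
      | empty => exact ⟨1, one_mem _, by simp⟩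
      | insert j s hj ih =>
      obtain ⟨x, hx, e1⟩ := ih
      obtain ⟨m, hmQ, e2, e3⟩ := n4 j j.2 _ (mul_mem (inv_mem hx) (hz' j j.2).1)
      refine ⟨x * m, mul_mem hx hmQ, fun i hi => ?_⟩
      rw [mul_inv_rev, mul_assoc]
      by_cases k : cj (i : X) K = cj (j : X) K
      · have k1 : (j : X) * (i : X)⁻¹ ∈ normalizer (K : Set X) := mem_normalizer_iff.2 fun y => by
          have := SetLike.ext_iff.1 k ((i : X)⁻¹ * y * i)
          rw [mem_cj, mem_cj] at this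
          convert this using 2 <;> group
        have k2 : ((j : X)⁻¹ * z * j)⁻¹ * ((i : X)⁻¹ * z * i) ∈ Nk V Q (cj j K) :=
          have k3 : ((j : X)⁻¹ * z * j)⁻¹ * ((i : X)⁻¹ * z * i) ∈ cj (j : X) K := mem_cj.2 (by
            convert triv hA ha hK.1 e hb hb1 hbK (mul_mem j.2 (inv_mem i.2)) k1 hz using 1
            group)
          ⟨((hm j j.2).1 k3).1, fun u hu => (hu.2 _ k3).symm⟩
        rw [k]
        simpa [mul_assoc] using mul_mem e3 k2
      · exact mul_mem (inv_mem (e2 i i.2 k)) (e1 i ((Finset.mem_insert.1 hi).resolve_left fun e => k (e ▸ rfl)))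
    replace e1 : ∀ f ∈ F, x⁻¹ * (f⁻¹ * z * f) ∈ Nk V Q (cj f K) := fun f hf => e1 ⟨f, hf⟩ (Finset.mem_univ _)
    have n5 : ∀ f ∈ F, ∀ g ∈ F, ∀ y ∈ Nk V Q (cj (f * g) K), g * y * g⁻¹ ∈ Nk V Q (cj f K) := fun f hf g hg y hy => by
      have := Nk_cj (inv_mem (h.hy.nm hg)) (y := g * y * g⁻¹) (K := cj (f * g) K) (V := V) (by simpa [mul_assoc] using hy)
      rwa [cj_cj, mul_inv_cancel_right] at this
    have hL : ∀ y, y ∈ Q ⊓ ⨅ f ∈ F, Nk V Q (cj f K) ↔ y ∈ Q ∧ ∀ f ∈ F, y ∈ Nk V Q (cj f K) := fun y => by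
      simp only [mem_inf, Subgroup.mem_iInf]
    have h5 := ((hL _).1 ((h.hy.mono (G' := Q ⊓ ⨅ f ∈ F, Nk V Q (cj f K)) inf_le_left (nm_of_conj fun g hg y hy =>
      (hL _).2 ⟨conj_mem (h.hy.nm hg) hy.1, fun f hf => n5 f hf g hg y (((hL _).1 hy).2 _ (mul_mem hf hg))⟩)).cov.fix h.hy inf_le_left
      (inv_mem hx) fun g hg => (hL _).2 ⟨by simpa [mul_assoc] using mul_mem (inv_mem hx) (conj_mem (h.hy.nm hg) hx), fun f hf => by
        convert mul_mem (e1 f hf) (inv_mem (n5 f hf g hg _ (e1 _ (mul_mem hf hg)))) using 1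
        group⟩)).2 1 (one_mem _)
    have h6 := mul_mem (inv_mem h5) (e1 1 (one_mem _))
    rw [cj_of_mem (one_mem _)] at h6
    refine hK.mem hw.1 (fun e => hcw (by simp [e])) hw.2 hz ?_
    simpa using (h6.2 w hw).symm
  have h7 := (hV.eq_bot_or_eq _ (nrm (V ⊓ centralizer (A : Set X)) inf_le_left (nm_inf (nm_top _) (nm_cen hZ)))
    inf_le_left).resolve_left fun e => hK.2.1 (le_bot_iff.1 (e ▸ inf_le_inf_left V (centralizer_le hAK)))
  exact hA0 (le_bot_iff.1 (h0 ▸ le_inf inf_le_left (le_centralizer_iff.1 (inf_eq_left.1 h7))))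

universe u

theorem key_aux (n : ℕ) : ∀ (X : Type u) [Group X] [Finite X] (G P Q F H : Subgroup X) (c : X), Nat.card P * Nat.card Q = n →
    Fr G F H → P ≤ G → Q ≤ G → Q ⊔ F ⊔ H ≤ normalizer (P : Set X) → F ⊔ H ≤ normalizer (Q : Set X) → Group.IsSolvable P →
    Group.IsNilpotent Q → (Nat.card Q).Coprime (Nat.card P) → c ∈ Q → (∀ u ∈ P, (∀ a ∈ H, u * a = a * u) → c * u = u * c) →
    (∀ L : Subgroup X, (∀ f ∈ F, f * c * f⁻¹ ∈ L) → Q ≤ L) → ∀ u ∈ P, c * u = u * c := by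
  induction n using Nat.strong_induction_on with
  | _ n ih =>
  suffices H0 : ∀ (X : Type u) [Group X] [Finite X] (G P Q F H : Subgroup X) (c : X), P ⊔ Q ⊔ F ⊔ H = ⊤ → Nat.card P * Nat.card Q = n →
      Fr G F H → P ≤ G → Q ≤ G → Q ⊔ F ⊔ H ≤ normalizer (P : Set X) → F ⊔ H ≤ normalizer (Q : Set X) → Group.IsSolvable P →
      Group.IsNilpotent Q → (Nat.card Q).Coprime (Nat.card P) → c ∈ Q → (∀ u ∈ P, (∀ a ∈ H, u * a = a * u) → c * u = u * c) →
      (∀ L : Subgroup X, (∀ f ∈ F, f * c * f⁻¹ ∈ L) → Q ≤ L) → ∀ u ∈ P, c * u = u * c by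
    intro X _ _ G P Q F H c hn h hP hQ n1 n2 hs hnil hc hcQ h3 hgen u hu
    have h1 : P ≤ P ⊔ Q ⊔ F ⊔ H := le_sup_of_le_left (le_sup_of_le_left le_sup_left)
    have h2 : Q ≤ P ⊔ Q ⊔ F ⊔ H := le_sup_of_le_left (le_sup_of_le_left le_sup_right)
    have h4 : F ≤ P ⊔ Q ⊔ F ⊔ H := le_sup_of_le_left le_sup_right
    exact congrArg Subtype.val (H0 ↥(P ⊔ Q ⊔ F ⊔ H) (G.subgroupOf _) (P.subgroupOf _) (Q.subgroupOf _) (F.subgroupOf _) (H.subgroupOf _)
      ⟨c, h2 hcQ⟩ (by rw [← subgroupOf_sup h1 h2, ← subgroupOf_sup (sup_le h1 h2) h4, ← subgroupOf_sup le_sup_left le_sup_right,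
        subgroupOf_self]) (by rw [card_subgroupOf_of_le h1, card_subgroupOf_of_le h2, hn]) (h.sub h4) (comap_mono hP) (comap_mono hQ)
      (sup_le (sup_le (nm_sub (le_sup_of_le_left le_sup_left |>.trans n1) _) (nm_sub (le_sup_of_le_left le_sup_right |>.trans n1) _))
        (nm_sub (le_sup_right.trans n1) _)) (sup_le (nm_sub (le_sup_left.trans n2) _) (nm_sub (le_sup_right.trans n2) _))
      (isSolvable_subgroupOf hs _) (isNilpotent_subgroupOf hnil _) (by rwa [card_subgroupOf_of_le h1, card_subgroupOf_of_le h2]) hcQ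
      (fun u hu e => Subtype.ext (h3 u hu fun a ha => congrArg Subtype.val (e ⟨a, mem_sup_right ha⟩ ha)))
      (fun L hL x hx => by
        obtain ⟨y, hy, e⟩ := hgen (L.map (Subgroup.subtype _)) (fun f hf => ⟨_, hL ⟨f, h4 hf⟩ hf, rfl⟩) hx
        exact (Subtype.ext e : y = x) ▸ hy) ⟨u, h1 hu⟩ hu)
  intro X _ _ G P Q F H c hT hn h hP hQ n1 n2 hs hnil hc hcQ h3 hgen
  have hPn : P.Normal := normalizer_eq_top_iff.1 (top_le_iff.1 (by rw [← hT, sup_assoc P, sup_assoc P]; exact sup_le le_normalizer n1))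
  have ihq : ∀ (M : Subgroup X) [M.Normal], M ≤ G → P ⊓ M ≠ ⊥ ∨ Q ⊓ M ≠ ⊥ → ∀ u ∈ P, c * u * c⁻¹ * u⁻¹ ∈ M := by
    intro M _ hM hne u hu
    refine mk_comm_iff.1 (ih _ ?_ _ _ _ _ _ _ _ rfl (h.quot hM) (map_mono hP) (map_mono hQ)
      (by rw [← Subgroup.map_sup, ← Subgroup.map_sup]; exact map_le_normalizer_map _ n1)
      (by rw [← Subgroup.map_sup]; exact map_le_normalizer_map _ n2) (isSolvable_map _ _) (isNilpotent_map _ _)
      ((hc.coprime_dvd_left (card_map_dvd _ _)).coprime_dvd_right (card_map_dvd _ _)) ⟨c, hcQ, rfl⟩ ?_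
      (fun L hL => map_le_iff_le_comap.2 (hgen _ fun f hf => by simpa using hL _ ⟨f, hf, rfl⟩)) _ ⟨u, hu, rfl⟩)
    · rw [← hn, ← card_map_mk'_mul P M, ← card_map_mk'_mul Q M, mul_mul_mul_comm]
      refine lt_mul_of_one_lt_right (Nat.mul_pos Nat.card_pos Nat.card_pos) ?_
      rcases hne with e | e
      exacts [one_lt_mul_of_lt_of_le ((one_lt_card_iff_ne_bot _).2 e) Nat.card_pos,
        one_lt_mul_of_le_of_lt Nat.card_pos ((one_lt_card_iff_ne_bot _).2 e)]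
    · rintro _ ⟨v, hv, rfl⟩ e
      obtain ⟨k, hk, e'⟩ := (h.mono (G' := P ⊓ M) (inf_le_left.trans hP) (nm_top _) (nm_top _)).lift (nm_top ⊤ (mem_top v))
        fun a ha => ⟨by simpa [mul_assoc] using mul_mem hv (hPn.conj_mem _ (inv_mem hv) a), mk_comm_iff.1 (e _ ⟨a, ha, rfl⟩)⟩
      simpa [(QuotientGroup.eq_one_iff k).2 hk.2] using congrArg (QuotientGroup.mk' M) (h3 _ (mul_mem hk.1 hv) e')
  by_cases hP0 : P = ⊥
  · intro u hu
    simp [mem_bot.1 (hP0 ▸ hu)]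
  obtain ⟨V, hV, hVP⟩ := exists_isMinNormal_le P hP0
  have := hV.normal
  rcases hVP.lt_or_eq with hlt | rfl
  · have h1 := ih _ (hn ▸ Nat.mul_lt_mul_of_pos_right (card_lt_of_lt hlt) Nat.card_pos) X G V Q F H c rfl h (hVP.trans hP) hQ (nm_top _) n2
      (isSolvable_of_le hVP hs) hnil (hc.coprime_dvd_right (card_dvd_of_le hVP)) hcQ (fun u hu => h3 u (hVP hu)) hgen
    have h2 := ihq V (hVP.trans hP) (Or.inl (by rw [inf_eq_right.2 hVP]; exact hV.ne_bot))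
    have h4 : ∀ {L : Subgroup X}, (∀ u ∈ L, c * u = u * c) → L ≤ centralizer (zpowers c : Set X) := fun e =>
      le_centralizer_iff.1 (zpowers_le.2 fun u hu => (e u hu).symm)
    refine fun u hu => coprime_le_centralizer_of_trivial_on_factors (zpowers c) P V (nm_top _)
      ((hc.coprime_dvd_left (card_dvd_of_le (zpowers_le.2 hcQ))).coprime_dvd_right (card_dvd_of_le hVP)) (h4 h1) ?_ hu c (mem_zpowers c)
    rw [← map_mk'_eq_bot_iff, map_commutator, commutator_eq_bot_iff_le_centralizer, MonoidHom.map_zpowers]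
    rintro _ ⟨v, hv, rfl⟩
    exact fun y hy => mem_centralizer_singleton_iff.1
      (zpowers_le.2 (mem_centralizer_singleton_iff.2 (mk_comm_iff.2 (h2 v hv))) hy)
  obtain ⟨p, hp, hE⟩ := hV.exists_isElementaryAbelian_of_isSolvable hs
  by_cases h0 : Q ⊓ centralizer (V : Set X) = ⊥
  · have := core hV hE hT (h.mono hQ (le_sup_left.trans n2) (le_sup_right.trans n2)) hnil hc h0 hcQ h3 hgen
    simp [mem_bot.1 (this ▸ hcQ)]
  have : (Q ⊓ centralizer (V : Set X)).Normal := normalizer_eq_top_iff.1 (top_le_iff.1 (by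
    rw [← hT, sup_assoc V, sup_assoc V, sup_assoc Q]
    exact sup_le ((le_centralizer_iff.1 inf_le_right).trans (centralizer_le_normalizer _))
      (nm_inf (sup_le le_normalizer n2) (nm_cen (nm_top _)))))
  intro u hu
  have h1 : c * u * c⁻¹ * u⁻¹ ∈ Q ⊓ V := mem_inf.2 ⟨(ihq _ (inf_le_left.trans hQ) (Or.inr (by rwa [inf_eq_right.2 inf_le_left])) u hu).1,
    mul_mem (hPn.conj_mem u hu c) (inv_mem hu)⟩
  rwa [(disjoint_of_coprime_natCard hc).eq_bot, mem_bot, mul_inv_eq_one, mul_inv_eq_iff_eq_mul] at h1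

/-- an element of `C_Q(H)` centralising `C_P(H)` centralises `P` -/
theorem key {X : Type u} [Group X] [Finite X] {G P Q F H : Subgroup X} (h : Fr G F H) (hP : P ≤ G) (hQ : Q ≤ G)
    (n1 : Q ⊔ F ⊔ H ≤ normalizer (P : Set X)) (n2 : F ≤ normalizer (Q : Set X)) (hs : Group.IsSolvable P) (hnil : Group.IsNilpotent Q)
    (hc : (Nat.card Q).Coprime (Nat.card P)) {c : X} (hcQ : c ∈ Q) (hcH : ∀ a ∈ H, a * c = c * a)
    (h3 : ∀ u ∈ P, (∀ a ∈ H, u * a = a * u) → c * u = u * c) : ∀ u ∈ P, c * u = u * c := by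
  let R := closure {x | ∃ f ∈ F, x = f * c * f⁻¹}
  have hR : R ≤ Q := (closure_le _).2 (by rintro _ ⟨f, hf, rfl⟩; exact conj_mem (n2 hf) hcQ)
  have key : ∀ A : Subgroup X, (∀ a ∈ A, ∀ f ∈ F, ∃ g ∈ F, a * (f * c * f⁻¹) * a⁻¹ = g * c * g⁻¹) → A ≤ normalizer (R : Set X) :=
    fun A hA => nm_of_conj fun a ha => (closure_le (cj a R)).2 (by
      rintro _ ⟨f, hf, rfl⟩
      exact Subgroup.subset_closure (hA a ha f hf))
  exact key_aux _ X G P R F H c rfl h hP (hR.trans hQ) ((sup_le_sup_right (sup_le_sup_right hR _) _).trans n1)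
    (sup_le (key F fun a ha f hf => ⟨a * f, mul_mem ha hf, by group⟩) (key H fun a ha f hf => ⟨_, conj_mem (h.nmF ha) hf, by
      calc a * (f * c * f⁻¹) * a⁻¹ = a * f * a⁻¹ * (a * c) * f⁻¹ * a⁻¹ := by group
        _ = _ := by rw [hcH a ha]; group⟩)) hs (isNilpotent_of_le hnil hR) (hc.coprime_dvd_left (card_dvd_of_le hR))
    (Subgroup.subset_closure ⟨1, one_mem _, by simp⟩) h3 fun L hL => (closure_le L).2 (by rintro _ ⟨f, hf, rfl⟩; exact hL f hf)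

end CL.KH
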