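import Mathlib
import Cfsg.Agent.FGS.KH.Key
import Cfsg.Agent.FGS.FitHeight
import Cfsg.Agent.SOLV.PLength

/-!
# Frobenius groups of operators on solvable groups: order, cores, Fitting height and `p`-length
-/

set_option autoImplicit false

open Subgroup Cfsg
open scoped Pointwise

namespace CL.KH

open CL.Misc CL.Abelem CL.FroA CL.FH

theorem card_free {k V Γ : Type*} [Field k] [AddCommGroup V] [Module k V] [FiniteDimensional k V] [Group Γ] [Finite Γ]
    {ρ : Representation k Γ V} (h : FreeMod.Free ρ) : Nat.card V = Nat.card ρ.invariants ^ Nat.card Γ := by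
  classical
  obtain ⟨W, hW, hd⟩ := h
  have := Fintype.ofFinite Γ
  let Φ : (Γ → W) →ₗ[k] V := ∑ g, ρ g ∘ₗ W.subtype ∘ₗ LinearMap.proj g
  have hΦ : ∀ w, Φ w = ∑ g, ρ g (w g) := fun w => by simp [Φ]
  have hs : Function.Surjective Φ := LinearMap.range_eq_top.1 (top_le_iff.1 (hW ▸ iSup_le fun g => by
    rintro _ ⟨w, hw, rfl⟩
    refine ⟨Pi.single g ⟨w, hw⟩, ?_⟩
    rw [hΦ, Finset.sum_eq_single g (fun b _ hb => by simp [hb]) (by simp)]
    simp))
  have hi : Function.Injective Φ := by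
    rw [← LinearMap.ker_eq_bot, ← Submodule.finrank_eq_zero]
    have := LinearMap.finrank_range_add_finrank_ker Φ
    rw [LinearMap.range_eq_top.mpr hs, finrank_top, Module.finrank_pi_fintype, Finset.sum_const, Finset.card_univ, smul_eq_mul,
      ← Nat.card_eq_fintype_card] at this
    omega
  have sh : ∀ (a : Γ) w, ρ a (Φ w) = Φ fun g => w (a⁻¹ * g) := fun a w => by
    rw [hΦ, hΦ, map_sum, ← Equiv.sum_comp (Equiv.mulLeft a) fun g => ρ g (w (a⁻¹ * g))]
    simp
  rw [← Nat.card_eq_of_bijective Φ ⟨hi, hs⟩, Nat.card_fun, Nat.card_eq_of_bijective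
    (fun w : W => (⟨Φ fun _ => w, fun a => sh a _⟩ : ρ.invariants)) ⟨fun w w' e => congrFun (hi (congrArg Subtype.val e)) 1, fun v => ?_⟩]
  obtain ⟨w, e⟩ := hs v
  refine ⟨w 1, Subtype.ext (Eq.trans (congrArg Φ (funext fun g => ?_)) e)⟩
  simpa using congrFun (hi ((sh g w).symm.trans (e ▸ v.2 g))) g

section
variable {X : Type*} [Group X] [Finite X] {G F H : Subgroup X}

theorem inf_eq (h : Fr G F H) : H ⊓ G = ⊥ := (eq_bot_iff_forall _).2 fun a ha => h.hy.fpf a ha.2 fun f hf => by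
  have : f * a * f⁻¹ * a⁻¹ ∈ G ⊓ F := mem_inf.2 ⟨mul_mem (conj_mem (h.hy.nm hf) ha.2) (inv_mem ha.2), by
    simpa [mul_assoc] using mul_mem hf (conj_mem (h.nmF ha.1) (inv_mem hf))⟩
  rwa [h.hy.inf_eq, mem_bot, mul_inv_eq_one, mul_inv_eq_iff_eq_mul] at this

theorem map_fix (h : Fr G F H) {N : Subgroup X} [N.Normal] (hle : N ≤ G) : G.map (QuotientGroup.mk' N) ⊓
    centralizer ((H.map (QuotientGroup.mk' N) : Subgroup (X ⧸ N)) : Set (X ⧸ N)) =
      (G ⊓ centralizer (H : Set X)).map (QuotientGroup.mk' N) := by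
  refine le_antisymm ?_ (le_inf (map_mono inf_le_left) ?_)
  · rintro _ ⟨⟨g, hg, rfl⟩, e⟩
    obtain ⟨k, hk, e'⟩ := (h.mono hle (nm_top _) (nm_top _)).lift (nm_top ⊤ (mem_top g))
      fun a ha => mk_comm_iff.1 (e _ ⟨a, ha, rfl⟩).symm
    exact ⟨k * g, ⟨mul_mem (hle hk) hg, fun a ha => (e' a ha).symm⟩, by simp [(QuotientGroup.eq_one_iff k).2 hk]⟩
  · rintro _ ⟨g, hg, rfl⟩ _ ⟨a, ha, rfl⟩
    rw [← map_mul, hg.2 a ha, map_mul]

end

universe u

theorem ord_aux (n : ℕ) : ∀ (X : Type u) [Group X] [Finite X] (G F H : Subgroup X), G.Normal → Nat.card G = n → Fr G F H →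
    Group.IsSolvable G → Nat.card G = Nat.card (G ⊓ centralizer (H : Set X) : Subgroup X) ^ Nat.card H := by
  induction n using Nat.strong_induction_on with
  | _ n ih =>
  intro X _ _ G F H hG hn h hs
  by_cases h0 : G = ⊥
  · simp [h0]
  obtain ⟨p, hp, M, hle, hM, hE, h3⟩ := exists_elab hs h0
  have := Fact.mk hp
  have : M.Normal := normalizer_eq_top_iff.1 (top_le_iff.1 ((nm_top ⊤).trans h3))
  have h1 := card_map_mk'_mul G M
  have h2 := card_map_mk'_mul H M
  have h4 := card_free ((h.mono hle (nm_top _) (nm_top _)).free hE)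
  rw [inf_eq_right.2 hle] at h1
  rw [le_bot_iff.1 ((inf_le_inf_left H hle).trans (inf_eq h).le), card_bot, mul_one] at h2
  rw [card_V, ← card_toSubgroup, toSubgroup_invariants_rep] at h4
  rw [← h1, ih _ (by
      rw [← hn, ← h1]
      exact lt_mul_of_one_lt_right Nat.card_pos ((one_lt_card_iff_ne_bot _).2 hM)) _ _ _ _
    (Normal.map hG _ (QuotientGroup.mk'_surjective M)) rfl (h.quot hle) (isSolvable_map _ _), map_fix h hle, h2, h4, ← mul_pow,
    ← card_map_mk'_mul (G ⊓ centralizer (H : Set X)) M, inf_right_comm, inf_eq_right.2 hle]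

variable {X : Type u} [Group X] [Finite X] {G F H D : Subgroup X}

/-- the order formula -/
theorem ord (h : Fr G F H) (hs : Group.IsSolvable G) :
    Nat.card G = Nat.card (G ⊓ centralizer (H : Set X) : Subgroup X) ^ Nat.card H := by
  have := ord_aux _ (normalizer (G : Set X)) (G.subgroupOf _) (F.subgroupOf _) (H.subgroupOf _) normal_in_normalizer rfl
    (h.sub h.hy.nm) (isSolvable_subgroupOf hs _)
  rw [card_subgroupOf_of_le le_normalizer, card_subgroupOf_of_le h.nmG] at this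
  rw [this, ← card_subgroupOf_of_le (inf_le_left.trans le_normalizer : G ⊓ centralizer (H : Set X) ≤ _)]
  congr 3
  ext x
  exact and_congr_right fun _ => ⟨fun e a ha => congrArg Subtype.val (e ⟨a, h.nmG ha⟩ ha), fun e a ha => Subtype.ext (e a ha)⟩

theorem syl_fix (h : Fr G F H) (hs : Group.IsSolvable G) {q : ℕ} [Fact q.Prime] {Q : Subgroup X} (hQ : SylIn q Q G)
    (h1 : F ≤ normalizer (Q : Set X)) (h2 : H ≤ normalizer (Q : Set X)) :
    SylIn q (Q ⊓ centralizer (H : Set X)) (G ⊓ centralizer (H : Set X)) := by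
  have hle := inf_le_inf_right (centralizer (H : Set X)) hQ.le
  refine ⟨hle, hQ.isPGroup.to_inf_left, fun e => hQ.not_dvd ?_⟩
  have h3 := ord h hs
  rw [← card_mul_relIndex_of_le hQ.le, ← card_mul_relIndex_of_le hle, mul_pow,
    ← ord (h.mono hQ.le h1 h2) (isSolvable_of_le hQ.le hs)] at h3
  rw [Nat.eq_of_mul_eq_mul_left Nat.card_pos h3]
  exact e.trans (dvd_pow_self _ Nat.card_pos.ne')

theorem core_bot [G.Normal] (h : Fr G F H) (hs : Group.IsSolvable G) {π : Set ℕ} (h0 : piCore π X ⊓ G = ⊥)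
    (hD : D ≤ G ⊓ centralizer (H : Set X)) (hn : G ⊓ centralizer (H : Set X) ≤ normalizer (D : Set X))
    (hπ : IsPiNum π (Nat.card D)) : D = ⊥ := by
  by_contra hne
  obtain ⟨q, hq, hd⟩ := Nat.exists_prime_and_dvd (mt card_eq_one.1 hne)
  have := Fact.mk hq
  obtain ⟨Q, hQ, h1, h2⟩ := h.syl q
  obtain ⟨⟨c, hc⟩, hc1⟩ := ne_bot_iff_exists_ne_one.1 (((syl_fix h hs hQ h1 h2).inf_normal hD hn).ne_bot hd)
  have hP : (fittingOf G).Normal := by rw [fittingOf_of_normal]; infer_instance
  have := isNilpotent_fittingOf G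
  have h3 : IsPiNum πᶜ (Nat.card (fittingOf G)) := by
    have e := (isPiHall_iff.1 (isPiHall_piCore_of_isNilpotent π (fittingOf G))).2
    rwa [(map_eq_bot_iff_of_injective _ (subtype_injective _)).1 ((map_piCore_of_normal _).trans
      (le_bot_iff.1 ((inf_le_inf_left _ (fittingOf_le G)).trans h0.le))), index_bot] at e
  have h4 := (disjoint_of_coprime_natCard (hπ.coprime h3)).eq_bot
  refine hc1 (Subtype.ext (mem_bot.1 (h4 ▸ mem_inf.2 ⟨hc.2, centralizer_fittingOf_inf_le hs ⟨fun u hu => ?_, hQ.le hc.1.1⟩⟩)))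
  refine (key h (fittingOf_le G) hQ.le (nm_top _) h1 inferInstance hQ.isPGroup.isNilpotent
    ((IsPiNum.of_isPGroup hQ.isPGroup (hπ q hq hd)).coprime h3) hc.1.1 hc.1.2 (fun u hu e => ?_) u hu).symm
  have : c * u * c⁻¹ * u⁻¹ ∈ D ⊓ fittingOf G := mem_inf.2 ⟨by
    simpa [mul_assoc] using mul_mem hc.2 (conj_mem (hn ⟨fittingOf_le G hu, fun a ha => (e a ha).symm⟩) (inv_mem hc.2)),
    mul_mem (hP.conj_mem u hu c) (inv_mem hu)⟩
  rwa [h4, mem_bot, mul_inv_eq_one, mul_inv_eq_iff_eq_mul] at this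

/-- normal `π`-subgroups of `C_G(H)` lie in `O_π` -/
theorem core_le [hG : G.Normal] (h : Fr G F H) (hs : Group.IsSolvable G) {π : Set ℕ}
    (hD : D ≤ G ⊓ centralizer (H : Set X)) (hn : G ⊓ centralizer (H : Set X) ≤ normalizer (D : Set X))
    (hπ : IsPiNum π (Nat.card D)) : D ≤ piCore π X := by
  have := Normal.map hG _ (QuotientGroup.mk'_surjective (piCore π X ⊓ G))
  refine ((map_mk'_eq_bot_iff _ _).1 (core_bot (h.quot (N := piCore π X ⊓ G) inf_le_right) (isSolvable_map _ _) (π := π) ?_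
    (by rw [map_fix h inf_le_right]; exact map_mono hD) (by rw [map_fix h inf_le_right]; exact map_le_normalizer_map _ hn)
    (hπ.of_dvd (card_map_dvd _ _)))).trans inf_le_left
  rw [← map_mk'_piCore _ (isPiNum_card_of_le_piCore inf_le_left), eq_bot_iff]
  rintro _ ⟨⟨a, ha, rfl⟩, g, hg, e⟩
  exact (QuotientGroup.eq_one_iff a).2 ⟨ha, by simpa using mul_mem hg (QuotientGroup.eq.1 e).2⟩

theorem fit_le [G.Normal] (h : Fr G F H) (hs : Group.IsSolvable G) (hD : D ≤ G ⊓ centralizer (H : Set X))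
    (hn : G ⊓ centralizer (H : Set X) ≤ normalizer (D : Set X)) (hnil : Group.IsNilpotent D) : D ≤ fittingSubgroup X :=
  le_of_forall_isPGroup_le fun p _ P => (core_le h hs ((map_subtype_le _).trans hD)
    (hn.trans (normalizer_le_normalizer_sylow_of_isNilpotent hnil P)) (isPGroup_iff_isPiNum.1 (P.isPGroup'.map _))).trans
      (pCore_eq_piCore p X ▸ pCore_le_fittingSubgroup p)

theorem height (n : ℕ) : ∀ {X : Type u} [Group X] [Finite X] {G F H : Subgroup X} [G.Normal], Fr G F H → Group.IsSolvable G →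
    res n (G ⊓ centralizer (H : Set X)) = ⊥ → res n G = ⊥ := by
  induction n with
  | zero =>
    intro X _ _ G F H _ h _ e
    by_contra hne
    obtain ⟨c, hc, h1, e'⟩ := h.exists_fix hne
    exact h1 ((eq_bot_iff_forall _).1 e c ⟨hc, fun a ha => (e' a ha).symm⟩)
  | succ n ih =>
    intro X _ _ G F H hG h hs e
    have := Normal.map hG _ (QuotientGroup.mk'_surjective (fittingSubgroup X ⊓ G))
    refine res_succ_eq_bot_of_map (N := fittingSubgroup X ⊓ G) (isNilpotent_of_le_fittingSubgroup inf_le_left)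
      (ih (h.quot inf_le_right) (isSolvable_map _ _) ?_)
    rw [map_fix h inf_le_right, ← map_res, map_mk'_eq_bot_iff]
    exact le_inf (fit_le h hs (res_le _ _) (le_normalizer_res n le_normalizer) (nres_eq_bot_iff.1 ((res_succ n _).symm.trans e))) ((res_le _ _).trans inf_le_left)

theorem upper_le [hG : G.Normal] (h : Fr G F H) (hs : Group.IsSolvable G) (p : ℕ) [Fact p.Prime] (n : ℕ) :
    (upperPSeries p (G ⊓ centralizer (H : Set X) : Subgroup X) n).1.map (Subgroup.subtype _) ≤ (upperPSeries p X n).1 := by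
  induction n with
  | zero => simp [upperPSeries_zero]
  | succ n ih =>
    have := Normal.map hG _ (QuotientGroup.mk'_surjective ((upperPSeries p X n).1 ⊓ G))
    rw [upperPSeries_succ (G := X)]
    refine le_trans ?_ (coreOver_mono (inf_le_left : _ ⊓ G ≤ _))
    rw [coreOver_eq_comap, ← map_le_iff_le_comap]
    refine core_le (h.quot inf_le_right) (isSolvable_map _ _) (by rw [map_fix h inf_le_right]; exact map_mono (map_subtype_le _))
      (by rw [map_fix h inf_le_right]; exact map_le_normalizer_map _ (le_normalizer_map_subtype _ _))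
      ((isPiNum_relIndex_upperPSeries (G := (G ⊓ centralizer (H : Set X) : Subgroup X)) n).of_dvd ?_)
    rw [← relIndex_ker, QuotientGroup.ker_mk', ← relIndex_map_map_of_injective _ _ (subtype_injective _)]
    exact relIndex_dvd_of_le_left _ (le_inf ih ((map_subtype_le _).trans inf_le_left))

theorem plen [G.Normal] (h : Fr G F H) (hs : Group.IsSolvable G) {p : ℕ} [Fact p.Prime] {k : ℕ}
    (e : PLengthLE p k (G ⊓ centralizer (H : Set X) : Subgroup X)) : PLengthLE p k G := by
  have h1 := upper_le h hs p (2 * k + 1)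
  rw [show (upperPSeries p _ (2 * k + 1)).1 = ⊤ from e, ← MonoidHom.range_eq_map, range_subtype] at h1
  refine map_injective G.subtype_injective ?_
  rw [map_upperPSeries_of_normal, ← MonoidHom.range_eq_map, range_subtype, inf_eq_right]
  exact h.gen fun c hc e f _ => Normal.conj_mem inferInstance _ (h1 ⟨hc, fun a ha => (e a ha).symm⟩) f

end CL.KH
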